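import Cfsg.Agent.Lib.KGroups.AlgebraPoint.Tensor

/-!
# The equivariant product of an orthogonal representation with few invariant tensors
-/

set_option autoImplicit false
open Matrix Module

namespace CfsgLib.KGroups.AlgebraPoint

variable {d : ℕ}

/-- The product with coefficients `c`. -/
noncomputable def mulT (c : (Fin 3 → Fin d) → ℂ) (a b : Fin d → ℂ) : Fin d → ℂ :=
  fun k => ∑ i, ∑ j, c ![i, j, k] * a i * b j

theorem mulT_add_left (c : (Fin 3 → Fin d) → ℂ) (a a' b : Fin d → ℂ) :
    mulT c (a + a') b = mulT c a b + mulT c a' b := by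
  funext k
  simp only [mulT, Pi.add_apply, mul_add, add_mul, Finset.sum_add_distrib]

theorem mulT_add_right (c : (Fin 3 → Fin d) → ℂ) (a b b' : Fin d → ℂ) :
    mulT c a (b + b') = mulT c a b + mulT c a b' := by
  funext k
  simp only [mulT, Pi.add_apply, mul_add, Finset.sum_add_distrib]

theorem mulT_smul_left (c : (Fin 3 → Fin d) → ℂ) (r : ℂ) (a b : Fin d → ℂ) :
    mulT c (r • a) b = r • mulT c a b := by
  funext k
  simp only [mulT, Pi.smul_apply, smul_eq_mul, Finset.mul_sum]
  exact Finset.sum_congr rfl fun i _ => Finset.sum_congr rfl fun j _ => by ring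

theorem mulT_smul_right (c : (Fin 3 → Fin d) → ℂ) (r : ℂ) (a b : Fin d → ℂ) :
    mulT c a (r • b) = r • mulT c a b := by
  funext k
  simp only [mulT, Pi.smul_apply, smul_eq_mul, Finset.mul_sum]
  exact Finset.sum_congr rfl fun i _ => Finset.sum_congr rfl fun j _ => by ring

theorem dot_mulT (c : (Fin 3 → Fin d) → ℂ) (a b e : Fin d → ℂ) :
    mulT c a b ⬝ᵥ e = form c ![a, b, e] := by
  simp only [form, sum_fun_three, Fin.prod_univ_three, dotProduct, mulT, Finset.sum_mul]
  rw [Finset.sum_comm]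
  refine Finset.sum_congr rfl fun i _ => ?_
  rw [Finset.sum_comm]
  refine Finset.sum_congr rfl fun j _ => Finset.sum_congr rfl fun k _ => ?_
  simp only [Matrix.cons_val_zero, Matrix.cons_val_one, Matrix.cons_val]
  ring

/-- The product of two products. -/
noncomputable def fourT (c : (Fin 3 → Fin d) → ℂ) : (Fin 4 → Fin d) → ℂ :=
  fun i => ∑ k, c ![i 0, i 1, k] * c ![i 2, i 3, k]

/-- The three pairings. -/
noncomputable def pair1 (d : ℕ) : (Fin 4 → Fin d) → ℂ :=
  fun i => if i 0 = i 1 ∧ i 2 = i 3 then 1 else 0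

noncomputable def pair2 (d : ℕ) : (Fin 4 → Fin d) → ℂ :=
  fun i => if i 0 = i 2 ∧ i 1 = i 3 then 1 else 0

noncomputable def pair3 (d : ℕ) : (Fin 4 → Fin d) → ℂ :=
  fun i => if i 0 = i 3 ∧ i 1 = i 2 then 1 else 0

theorem form_fourT (c : (Fin 3 → Fin d) → ℂ) (a b e w : Fin d → ℂ) :
    form (fourT c) ![a, b, e, w] = mulT c a b ⬝ᵥ mulT c e w := by
  symm
  simp only [form, sum_fun_four, Fin.prod_univ_four, dotProduct, mulT, fourT]
  simp only [Finset.sum_mul]
  simp only [Finset.mul_sum]
  rw [Finset.sum_comm]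
  refine Finset.sum_congr rfl fun i _ => ?_
  rw [Finset.sum_comm]
  refine Finset.sum_congr rfl fun j _ => ?_
  rw [Finset.sum_comm]
  refine Finset.sum_congr rfl fun k _ => ?_
  rw [Finset.sum_comm]
  refine Finset.sum_congr rfl fun l _ => Finset.sum_congr rfl fun m _ => ?_
  simp only [Matrix.cons_val_zero, Matrix.cons_val_one, Matrix.cons_val]
  ring

theorem form_pair1 (v : Fin 4 → Fin d → ℂ) : form (pair1 d) v = (v 0 ⬝ᵥ v 1) * (v 2 ⬝ᵥ v 3) := by
  have hdot : ∀ x y : Fin d → ℂ, x ⬝ᵥ y = ∑ a, ∑ b, (if a = b then (1 : ℂ) else 0) * (x a * y b) := by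
    intro x y
    simp [dotProduct]
  simp only [hdot, form, sum_fun_four, Fin.prod_univ_four, pair1, Matrix.cons_val_zero, Matrix.cons_val_one,
    Matrix.cons_val]
  simp only [Finset.sum_mul]
  simp only [Finset.mul_sum]
  refine Finset.sum_congr rfl fun a _ => Finset.sum_congr rfl fun b _ => Finset.sum_congr rfl fun c _ =>
    Finset.sum_congr rfl fun e _ => ?_
  by_cases h1 : a = b <;> by_cases h2 : c = e <;> simp [h1, h2, mul_assoc]

theorem form_perm {k : ℕ} (σ : Equiv.Perm (Fin k)) (T : (Fin k → Fin d) → ℂ) (v : Fin k → Fin d → ℂ) :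
    form (permT d σ T) v = form T (v ∘ σ) := by
  simp only [form, permT_apply]
  refine Fintype.sum_equiv (Equiv.arrowCongr σ.symm (Equiv.refl _)) _ _ fun j => ?_
  rw [show (Equiv.arrowCongr σ.symm (Equiv.refl (Fin d))) j = j ∘ σ from funext fun l => by
    simp [Equiv.arrowCongr]]
  congr 1
  rw [← Equiv.prod_comp σ (fun l => v l (j l))]
  rfl

theorem form_add {k : ℕ} (S T : (Fin k → Fin d) → ℂ) (v : Fin k → Fin d → ℂ) :
    form (S + T) v = form S v + form T v := by
  simp [form, add_mul, Finset.sum_add_distrib]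

theorem form_smul {k : ℕ} (r : ℂ) (T : (Fin k → Fin d) → ℂ) (v : Fin k → Fin d → ℂ) :
    form (r • T) v = r * form T v := by
  simp [form, Finset.mul_sum, mul_assoc]

theorem permT_mul {k : ℕ} (σ π : Equiv.Perm (Fin k)) (T : (Fin k → Fin d) → ℂ) :
    permT d σ (permT d π T) = permT d (σ * π) T := rfl

theorem pairs_perm : permT d (Equiv.swap 1 2) (pair1 d) = pair2 d ∧
    permT d (Equiv.swap 1 2) (pair2 d) = pair1 d ∧ permT d (Equiv.swap 1 2) (pair3 d) = pair3 d ∧
    permT d (Equiv.swap 0 1) (pair1 d) = pair1 d ∧ permT d (Equiv.swap 0 1) (pair2 d) = pair3 d ∧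
    permT d (Equiv.swap 0 1) (pair3 d) = pair2 d := by
  refine ⟨?_, ?_, ?_, ?_, ?_, ?_⟩ <;> funext i <;>
    simp [permT_apply, pair1, pair2, pair3, Equiv.swap_apply_of_ne_of_ne, and_comm, eq_comm]

theorem pairs_indep (hd : 2 ≤ d) {a b c : ℂ} (h : a • pair1 d + b • pair2 d + c • pair3 d = 0) :
    a = 0 ∧ b = 0 ∧ c = 0 := by
  set o : Fin d := ⟨0, by omega⟩
  set u : Fin d := ⟨1, by omega⟩
  have hne : o ≠ u := by simp [o, u]
  refine ⟨?_, ?_, ?_⟩
  · simpa [pair1, pair2, pair3, hne, hne.symm] using congrFun h ![o, o, u, u]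
  · simpa [pair1, pair2, pair3, hne, hne.symm] using congrFun h ![o, u, o, u]
  · simpa [pair1, pair2, pair3, hne, hne.symm] using congrFun h ![o, u, u, o]

variable {G : Type*} [Group G]

theorem mulVec_dot {M : G →* Matrix (Fin d) (Fin d) ℂ} (hM : ∀ g, (M g).transpose = M g⁻¹) (g : G)
    (a b : Fin d → ℂ) : (M g *ᵥ a) ⬝ᵥ (M g *ᵥ b) = a ⬝ᵥ b := by
  rw [dotProduct_mulVec, ← mulVec_transpose, Matrix.mulVec_mulVec, hM, ← map_mul, inv_mul_cancel, map_one,
    Matrix.one_mulVec]

theorem pairs_mem {M : G →* Matrix (Fin d) (Fin d) ℂ} (hM : ∀ g, (M g).transpose = M g⁻¹) :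
    pair1 d ∈ (tens M 4).invariants ∧ pair2 d ∈ (tens M 4).invariants ∧ pair3 d ∈ (tens M 4).invariants := by
  have h1 : pair1 d ∈ (tens M 4).invariants := mem_invariants_of_form hM fun g v => by
    simp only [form_pair1, mulVec_dot hM]
  have h2 := permT_mem (Equiv.swap 1 2) h1
  rw [(pairs_perm).1] at h2
  have h3 := permT_mem (Equiv.swap 0 1) h2
  rw [(pairs_perm).2.2.2.2.1] at h3
  exact ⟨h1, h2, h3⟩

theorem mulT_equivariant {M : G →* Matrix (Fin d) (Fin d) ℂ} (hM : ∀ g, (M g).transpose = M g⁻¹)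
    {c : (Fin 3 → Fin d) → ℂ} (hc : c ∈ (tens M 3).invariants) (g : G) (a b : Fin d → ℂ) :
    mulT c (M g *ᵥ a) (M g *ᵥ b) = M g *ᵥ mulT c a b := by
  refine dotProduct_eq _ _ fun x => ?_
  have hx : M g *ᵥ (M g⁻¹ *ᵥ x) = x := by
    rw [Matrix.mulVec_mulVec, ← map_mul, mul_inv_cancel, map_one, Matrix.one_mulVec]
  conv_lhs => rw [← hx]
  conv_rhs => rw [← hx]
  rw [mulVec_dot hM, dot_mulT, dot_mulT, ← form_invariant hM hc g ![a, b, M g⁻¹ *ᵥ x]]
  congr 1
  funext l
  fin_cases l <;> rfl

theorem fourT_mem {M : G →* Matrix (Fin d) (Fin d) ℂ} (hM : ∀ g, (M g).transpose = M g⁻¹)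
    {c : (Fin 3 → Fin d) → ℂ} (hc : c ∈ (tens M 3).invariants) :
    fourT c ∈ (tens M 4).invariants := by
  refine mem_invariants_of_form hM fun g v => ?_
  have e : ∀ w : Fin 4 → Fin d → ℂ, w = ![w 0, w 1, w 2, w 3] := fun w => by
    funext l; fin_cases l <;> rfl
  rw [e v, e (fun l => M g *ᵥ ![v 0, v 1, v 2, v 3] l), form_fourT, form_fourT]
  simp only [Matrix.cons_val_zero, Matrix.cons_val_one, Matrix.cons_val]
  rw [mulT_equivariant hM hc, mulT_equivariant hM hc, mulVec_dot hM]

variable [Fintype G]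

/-- The average of a real character of norm one: at most one invariant trilinear form. -/
theorem finrank_three_le (χ : G → ℂ) (hreal : ∀ g, (χ g).im = 0) (h1 : ∑ g, χ g = 0)
    (h2 : ∑ g, χ g ^ 2 = (Nat.card G : ℂ)) (h4 : ∑ g, χ g ^ 4 = 4 * (Nat.card G : ℂ)) {m : ℕ}
    (h3 : ∑ g, χ g ^ 3 = (Nat.card G : ℂ) * m) : m ≤ 1 := by
  have hχ : ∀ g, χ g = ((χ g).re : ℂ) := fun g => Complex.ext rfl (by simp [hreal g])
  set r : G → ℝ := fun g => (χ g).re
  have conv : ∀ k : ℕ, ∑ g, χ g ^ k = ((∑ g, r g ^ k : ℝ) : ℂ) := fun k => by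
    push_cast
    exact Finset.sum_congr rfl fun g _ => by rw [hχ g]
  have e1 : ∑ g, r g = 0 := by
    have := conv 1
    simp only [pow_one, h1] at this
    exact_mod_cast this.symm
  have e2 : ∑ g, r g ^ 2 = (Nat.card G : ℝ) := by
    have := conv 2
    rw [h2] at this
    exact_mod_cast this.symm
  have e3 : ∑ g, r g ^ 3 = (Nat.card G : ℝ) * m := by
    have := conv 3
    rw [h3] at this
    exact_mod_cast this.symm
  have e4 : ∑ g, r g ^ 4 = 4 * (Nat.card G : ℝ) := by
    have := conv 4
    rw [h4] at this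
    exact_mod_cast this.symm
  have key : ∑ g, (r g ^ 2 - 1 - m * r g) ^ 2 = (3 - (m : ℝ) ^ 2) * Nat.card G := by
    have : ∀ g, (r g ^ 2 - 1 - m * r g) ^ 2
        = r g ^ 4 - (2 * m) * r g ^ 3 + ((m : ℝ) ^ 2 - 2) * r g ^ 2 + (2 * m) * r g + 1 := fun g => by ring
    simp only [this, Finset.sum_add_distrib, Finset.sum_sub_distrib, ← Finset.mul_sum, e1, e2, e3, e4,
      Finset.sum_const, Finset.card_univ, nsmul_eq_mul, mul_one]
    rw [← Nat.card_eq_fintype_card]
    ring
  have hpos : (0 : ℝ) < Nat.card G := Nat.cast_pos.mpr Nat.card_pos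
  have h0 : 0 ≤ (3 - (m : ℝ) ^ 2) * Nat.card G := key ▸ Finset.sum_nonneg fun g _ => sq_nonneg _
  by_contra hm
  have : (2 : ℝ) ≤ m := by exact_mod_cast (show 2 ≤ m by omega)
  have h4m : (4 : ℝ) ≤ (m : ℝ) ^ 2 := by nlinarith
  nlinarith

/-- An orthogonal form of the hypotheses. -/
structure Setup (M : G →* Matrix (Fin d) (Fin d) ℂ) : Prop where
  two_le : 2 ≤ d
  orth : ∀ g, (M g).transpose = M g⁻¹
  irr : ∀ U : Submodule ℂ (Fin d → ℂ), (∀ g, ∀ u ∈ U, M g *ᵥ u ∈ U) → U = ⊥ ∨ U = ⊤
  real : ∀ g, ((M g).trace).im = 0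
  sum_one : ∑ g, (M g).trace = 0
  sum_two : ∑ g, (M g).trace ^ 2 = (Nat.card G : ℂ)
  sum_four : ∑ g, (M g).trace ^ 4 = 4 * (Nat.card G : ℂ)
  sum_sym : ∑ g, ((M g).trace ^ 2 + (M g * M g).trace) * (M g).trace ≠ 0

theorem trace_swap3 (M : G →* Matrix (Fin d) (Fin d) ℂ) (g : G) :
    LinearMap.trace ℂ _ (tens M 3 g * permT d (Equiv.swap 0 1)) = (M g * M g).trace * (M g).trace := by
  rw [trace_tens_perm]
  simp only [sum_fun_three, Fin.prod_univ_three, Equiv.symm_swap, Equiv.swap_apply_left,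
    Equiv.swap_apply_right, Matrix.trace, Matrix.diag_apply, Matrix.mul_apply, Finset.sum_mul]
  refine Finset.sum_congr rfl fun a _ => Finset.sum_congr rfl fun b _ => ?_
  rw [Finset.mul_sum]
  refine Finset.sum_congr rfl fun c _ => ?_
  rw [show (Equiv.swap (0 : Fin 3) 1) 2 = 2 by decide]
  rfl

theorem exists_three {M : G →* Matrix (Fin d) (Fin d) ℂ} (S : Setup M) :
    ∃ c ∈ (tens M 3).invariants, c ≠ 0 ∧ permT d (Equiv.swap 0 1) c = c ∧
      permT d (Equiv.swap 1 2) c = c := by
  set P := avg M 3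
  set t := permT d (Equiv.swap (0 : Fin 3) 1)
  have hproj := avg_isProj M 3
  have htr : LinearMap.trace ℂ _ (P + P * t) ≠ 0 := by
    intro h0
    apply S.sum_sym
    rw [map_add] at h0
    have e1 : ∑ g, (M g).trace ^ 3 = (Nat.card G : ℂ) * LinearMap.trace ℂ _ P := by
      rw [trace_avg M 3, hproj.trace]
    have e2 : ∑ g, (M g * M g).trace * (M g).trace = (Nat.card G : ℂ) * LinearMap.trace ℂ _ (P * t) := by
      simp only [P, avg, smul_mul_assoc, Finset.sum_mul, map_smul, map_sum, smul_eq_mul, t, trace_swap3]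
      rw [← mul_assoc, mul_inv_cancel₀ (Nat.cast_ne_zero.mpr Nat.card_pos.ne'), one_mul]
    have e3 : ∀ g, ((M g).trace ^ 2 + (M g * M g).trace) * (M g).trace
        = (M g).trace ^ 3 + (M g * M g).trace * (M g).trace := fun g => by ring
    simp only [e3, Finset.sum_add_distrib, e1, e2, ← mul_add, h0, mul_zero]
  obtain ⟨T, hT⟩ : ∃ T, (P + P * t) T ≠ 0 := by
    by_contra h
    push Not at h
    exact htr (by rw [show P + P * t = 0 from LinearMap.ext h, map_zero])
  set c := (P + P * t) T with hc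
  have hmem : c ∈ (tens M 3).invariants := by
    rw [hc, LinearMap.add_apply, Module.End.mul_apply]
    exact add_mem (hproj.map_mem _) (hproj.map_mem _)
  have htc : t c = c := by
    have hcomm : ∀ x, t (P x) = P (t x) := fun x => LinearMap.congr_fun (permT_avg M (Equiv.swap 0 1)) x
    have hinv : ∀ x, t (t x) = x := fun x => by
      rw [permT_mul, Equiv.swap_mul_self]; rfl
    rw [hc, LinearMap.add_apply, Module.End.mul_apply, map_add, hcomm, hcomm, hinv, add_comm]
  refine ⟨c, hmem, hT, htc, ?_⟩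
  have hle : finrank ℂ (tens M 3).invariants ≤ 1 :=
    finrank_three_le (fun g => (M g).trace) S.real S.sum_one S.sum_two S.sum_four (trace_avg M 3)
  set s := permT d (Equiv.swap (1 : Fin 3) 2)
  have hne : (⟨c, hmem⟩ : (tens M 3).invariants) ≠ 0 := fun h => hT (congrArg Subtype.val h)
  have h1 : finrank ℂ (tens M 3).invariants = 1 := by
    have : Nontrivial (tens M 3).invariants := ⟨⟨_, _, hne⟩⟩
    have := Module.finrank_pos (R := ℂ) (M := (tens M 3).invariants)
    omega
  obtain ⟨l, hl⟩ := (finrank_eq_one_iff_of_nonzero' _ hne).mp h1 ⟨s c, permT_mem _ hmem⟩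
  have hl' : s c = l • c := (congrArg Subtype.val hl).symm
  have hl1 : l * l = 1 := by
    have : (l * l) • c = (1 : ℂ) • c := by
      rw [← smul_smul, ← hl', ← map_smul, ← hl', permT_mul, Equiv.swap_mul_self, one_smul]; rfl
    exact smul_left_injective ℂ hT this
  have hbraid : (l * l) • c = l • c := by
    have e : s (t (s c)) = t (s (t c)) := by
      simp only [s, t, permT_mul]
      congr 2
      decide
    rw [htc, hl', map_smul, map_smul, htc, hl', smul_smul] at e
    exact e
  have hll : l * l = l := smul_left_injective ℂ hT hbraid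
  rw [hl1] at hll
  rw [hl', ← hll, one_smul]

/-- The coefficient of the associative extension. -/
theorem exists_assoc {M : G →* Matrix (Fin d) (Fin d) ℂ} (S : Setup M) :
    ∃ (c : (Fin 3 → Fin d) → ℂ) (m : ℂ), c ≠ 0 ∧ c ∈ (tens M 3).invariants ∧
      (∀ a b, mulT c a b = mulT c b a) ∧
      ∀ a b e, (m * (a ⬝ᵥ b)) • e + mulT c (mulT c a b) e
        = (m * (b ⬝ᵥ e)) • a + mulT c a (mulT c b e) := by
  obtain ⟨c, hc, hne, h01, h12⟩ := exists_three S
  have hperm : ∀ (σ : Equiv.Perm (Fin 3)), permT d σ c = c → ∀ v, form c (v ∘ σ) = form c v := fun σ h v => by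
    rw [← form_perm, h]
  have hcomm : ∀ a b, mulT c a b = mulT c b a := fun a b => dotProduct_eq _ _ fun x => by
    rw [dot_mulT, dot_mulT, ← hperm _ h01 ![b, a, x]]
    congr 1
    funext l
    fin_cases l <;> rfl
  have hmove : ∀ a b e, mulT c a b ⬝ᵥ e = mulT c a e ⬝ᵥ b := fun a b e => by
    rw [dot_mulT, dot_mulT, ← hperm _ h12 ![a, e, b]]
    congr 1
    funext l
    fin_cases l <;> rfl
  obtain ⟨p1, p2, p3⟩ := pairs_mem S.orth
  have pT := fourT_mem S.orth hc
  obtain ⟨s1, s2, s3, t1, t2, t3⟩ := pairs_perm (d := d)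
  set T := fourT c with hT
  set s := permT d (Equiv.swap (1 : Fin 4) 2)
  set t := permT d (Equiv.swap (0 : Fin 4) 1)
  have htT : t T = T := by
    funext i
    have h : ∀ k, c ![i 1, i 0, k] = c ![i 0, i 1, k] := fun k => by
      conv_rhs => rw [← h01]
      rw [permT_apply]
      congr 1
      funext l
      fin_cases l <;> rfl
    simp only [t, permT_apply, hT, fourT, Function.comp_apply, Equiv.swap_apply_left, Equiv.swap_apply_right,
      show (Equiv.swap (0 : Fin 4) 1) 2 = 2 by decide, show (Equiv.swap (0 : Fin 4) 1) 3 = 3 by decide, h]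
  obtain ⟨m, hm⟩ : ∃ m : ℂ, s (T + m • pair1 d) = T + m • pair1 d := by
    set U := Submodule.span ℂ (Set.range ![pair1 d, pair2 d, pair3 d])
    have hU : ∀ x, x ∈ U ↔ ∃ a b e : ℂ, a • pair1 d + b • pair2 d + e • pair3 d = x := fun x => by
      rw [Submodule.mem_span_range_iff_exists_fun]
      constructor
      · rintro ⟨f, hf⟩
        exact ⟨f 0, f 1, f 2, by simpa [Fin.sum_univ_three] using hf⟩
      · rintro ⟨a, b, e, h⟩
        exact ⟨![a, b, e], by simpa [Fin.sum_univ_three] using h⟩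
    by_cases hTU : T ∈ U
    · obtain ⟨a, b, e, h⟩ := (hU T).mp hTU
      have hbe : b = e := by
        have h' : a • pair1 d + b • pair3 d + e • pair2 d = a • pair1 d + b • pair2 d + e • pair3 d := by
          calc a • pair1 d + b • pair3 d + e • pair2 d = t (a • pair1 d + b • pair2 d + e • pair3 d) := by
                simp only [t, map_add, map_smul, t1, t2, t3]
            _ = _ := by rw [h, htT]
        have h0 : (0 : ℂ) • pair1 d + (e - b) • pair2 d + (b - e) • pair3 d = 0 := by
          rw [← sub_self (a • pair1 d + b • pair2 d + e • pair3 d)]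
          nth_rw 1 [← h']
          rw [zero_smul, sub_smul, sub_smul]; abel
        exact sub_eq_zero.mp (pairs_indep S.two_le h0).2.2
      subst hbe
      refine ⟨b - a, ?_⟩
      rw [← h]
      simp only [s, map_add, map_smul, s1, s2, s3]
      rw [sub_smul, sub_smul]
      abel
    · have hindep : LinearIndependent ℂ ![pair1 d, pair2 d, pair3 d] := by
        rw [Fintype.linearIndependent_iff]
        intro f hf
        obtain ⟨f0, f1, f2⟩ := pairs_indep S.two_le (a := f 0) (b := f 1) (c := f 2)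
          (by simpa [Fin.sum_univ_three] using hf)
        intro i; fin_cases i <;> assumption
      have hUc : finrank ℂ U = 3 := by rw [finrank_span_eq_card hindep, Fintype.card_fin]
      have hUI : U ≤ (tens M 4).invariants := Submodule.span_le.mpr (by
        rintro _ ⟨i, rfl⟩
        fin_cases i <;> assumption)
      have h4 : finrank ℂ (tens M 4).invariants = 4 := by
        have h := trace_avg M 4
        rw [S.sum_four, mul_comm] at h
        exact_mod_cast (mul_left_cancel₀ (Nat.cast_ne_zero.mpr Nat.card_pos.ne') h).symm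
      have hsup : U ⊔ Submodule.span ℂ {T} = (tens M 4).invariants := by
        refine Submodule.eq_of_le_of_finrank_le (sup_le hUI (by simpa using pT)) ?_
        rw [h4]
        have hlt : U < U ⊔ Submodule.span ℂ {T} := lt_of_le_of_ne le_sup_left fun e =>
          hTU (e.symm ▸ Submodule.mem_sup_right (Submodule.mem_span_singleton_self T))
        have := Submodule.finrank_lt_finrank_of_lt hlt
        omega
      have hdec : s T ∈ U ⊔ Submodule.span ℂ {T} := hsup.symm ▸ permT_mem _ pT
      obtain ⟨L, hL, _, hR, hsT⟩ := Submodule.mem_sup.mp hdec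
      obtain ⟨k, rfl⟩ := Submodule.mem_span_singleton.mp hR
      obtain ⟨α, β, γ, rfl⟩ := (hU L).mp hL
      have hsT' : s T = α • pair1 d + β • pair2 d + γ • pair3 d + k • T := hsT.symm
      have key : ∀ a b e q : ℂ, a • pair1 d + b • pair2 d + e • pair3 d + q • T = 0 →
          a = 0 ∧ b = 0 ∧ e = 0 ∧ q = 0 := by
        intro a b e q h
        by_cases hq : q = 0
        · subst hq
          rw [zero_smul, add_zero] at h
          obtain ⟨h1, h2, h3⟩ := pairs_indep S.two_le h
          exact ⟨h1, h2, h3, rfl⟩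
        · exfalso
          apply hTU
          have hm : q • T ∈ U := by
            rw [eq_neg_of_add_eq_zero_right h]
            exact U.neg_mem ((hU _).mpr ⟨a, b, e, rfl⟩)
          exact (Submodule.smul_mem_iff U hq).mp hm
      have hss : s (s T) = T := by rw [permT_mul, Equiv.swap_mul_self]; rfl
      have hbraid : s (t (s T)) = t (s (t T)) := by
        simp only [s, t, permT_mul]
        congr 2
        decide
      rw [htT] at hbraid
      simp only [hsT', map_add, map_smul, s, t, s1, s2, s3, t1, t2, t3] at hss hbraid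
      simp only [show permT d (Equiv.swap (0 : Fin 4) 1) T = T from htT,
        show permT d (Equiv.swap (1 : Fin 4) 2) T = _ from hsT', map_add, map_smul, s1, s2, s3, t1, t2, t3,
        smul_add, smul_smul] at hss hbraid
      have k1 := key (β + k * α) (α + k * β) (γ + k * γ) (k * k - 1) (by
        rw [← sub_self T]
        nth_rw 2 [← hss]
        simp only [add_smul, sub_smul, one_smul]
        abel)
      have k2 := key (γ + k * α - α) (α + k * β - γ) (β + k * γ - β) (k * k - k) (by
        rw [← sub_eq_zero] at hbraid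
        rw [← hbraid]
        simp only [add_smul, sub_smul]
        abel)
      obtain ⟨h1, h2, h3, h4'⟩ := k1
      have hk : k = 1 := by linear_combination h4' - k2.2.2.2
      subst hk
      have hβ : β = -α := by linear_combination h1
      have hγ : γ = 0 := by linear_combination h3 / 2
      refine ⟨α, ?_⟩
      simp only [s, map_add, map_smul, s1, show permT d (Equiv.swap (1 : Fin 4) 2) T = _ from hsT', hβ, hγ,
        neg_smul, one_smul, zero_smul]
      abel
  refine ⟨c, m, hne, hc, hcomm, fun a b e => dotProduct_eq _ _ fun w => ?_⟩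
  have htF : t (T + m • pair1 d) = T + m • pair1 d := by simp only [t, map_add, map_smul, t1]; rw [show
    permT d (Equiv.swap (0 : Fin 4) 1) T = T from htT]
  set F := T + m • pair1 d
  have hF : ∀ x y z u : Fin d → ℂ,
      form F ![x, y, z, u] = mulT c x y ⬝ᵥ mulT c z u + m * ((x ⬝ᵥ y) * (z ⬝ᵥ u)) := fun x y z u => by
    rw [form_add, form_smul, form_pair1, form_fourT]; rfl
  have hcyc : form F ![b, e, a, w] = form F ![a, b, e, w] := by
    have h1 : form F ![b, e, a, w] = form (s F) ![b, a, e, w] := by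
      rw [form_perm]
      congr 1
      funext l
      fin_cases l <;> rfl
    have h2 : form F ![b, a, e, w] = form (t F) ![a, b, e, w] := by
      rw [form_perm]
      congr 1
      funext l
      fin_cases l <;> rfl
    rw [h1, hm, h2, htF]
  rw [hF, hF] at hcyc
  rw [add_dotProduct, add_dotProduct, smul_dotProduct, smul_dotProduct, smul_eq_mul, smul_eq_mul]
  have e1 : mulT c (mulT c a b) e ⬝ᵥ w = mulT c a b ⬝ᵥ mulT c e w := by
    rw [hcomm (mulT c a b) e, hmove, dotProduct_comm]
  have e2 : mulT c a (mulT c b e) ⬝ᵥ w = mulT c b e ⬝ᵥ mulT c a w := by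
    rw [hmove, dotProduct_comm]
  rw [e1, e2]
  linear_combination -hcyc

end CfsgLib.KGroups.AlgebraPoint
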