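import Cfsg.Agent.Lib.KGroups.AlgebraPoint.Product
import Mathlib.RingTheory.Artinian.Module
import Mathlib.FieldTheory.IsAlgClosed.Basic

/-!
# The points of the algebra attached to the invariant product
-/

set_option autoImplicit false
open Matrix Module

namespace CfsgLib.KGroups.AlgebraPoint

variable {d : ℕ}

/-- A commutative associative extension of the scalars by the product of `c`. -/
structure Ext (d : ℕ) where
  c : (Fin 3 → Fin d) → ℂ
  m : ℂ
  comm : ∀ a b, mulT c a b = mulT c b a
  assoc : ∀ a b e, (m * (a ⬝ᵥ b)) • e + mulT c (mulT c a b) e = (m * (b ⬝ᵥ e)) • a + mulT c a (mulT c b e)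

/-- The carrier `ℂ × ℂ^d`. -/
def Carrier (_E : Ext d) : Type := ℂ × (Fin d → ℂ)

variable {E : Ext d}

noncomputable instance : AddCommGroup (Carrier E) := inferInstanceAs (AddCommGroup (ℂ × (Fin d → ℂ)))

noncomputable instance : Module ℂ (Carrier E) := inferInstanceAs (Module ℂ (ℂ × (Fin d → ℂ)))

/-- The pair with given scalar and vector part. -/
def mk (E : Ext d) (p : ℂ) (a : Fin d → ℂ) : Carrier E := (p, a)

/-- Scalar part. -/
def sc (x : Carrier E) : ℂ := Prod.fst x

/-- Vector part. -/
def vec (x : Carrier E) : Fin d → ℂ := Prod.snd x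

theorem ext' {x y : Carrier E} (h1 : sc x = sc y) (h2 : vec x = vec y) : x = y := Prod.ext h1 h2

@[simp] theorem sc_mk (p : ℂ) (a : Fin d → ℂ) : sc (mk E p a) = p := rfl
@[simp] theorem vec_mk (p : ℂ) (a : Fin d → ℂ) : vec (mk E p a) = a := rfl
@[simp] theorem sc_add (x y : Carrier E) : sc (x + y) = sc x + sc y := rfl
@[simp] theorem vec_add (x y : Carrier E) : vec (x + y) = vec x + vec y := rfl
@[simp] theorem sc_zero : sc (0 : Carrier E) = 0 := rfl
@[simp] theorem vec_zero : vec (0 : Carrier E) = 0 := rfl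
@[simp] theorem sc_smul (r : ℂ) (x : Carrier E) : sc (r • x) = r * sc x := rfl
@[simp] theorem vec_smul (r : ℂ) (x : Carrier E) : vec (r • x) = r • vec x := rfl

noncomputable instance : Mul (Carrier E) :=
  ⟨fun x y => mk E (sc x * sc y + E.m * (vec x ⬝ᵥ vec y))
    (sc x • vec y + sc y • vec x + mulT E.c (vec x) (vec y))⟩

noncomputable instance : One (Carrier E) := ⟨mk E 1 0⟩

@[simp] theorem sc_mul (x y : Carrier E) : sc (x * y) = sc x * sc y + E.m * (vec x ⬝ᵥ vec y) := rfl
@[simp] theorem vec_mul (x y : Carrier E) :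
    vec (x * y) = sc x • vec y + sc y • vec x + mulT E.c (vec x) (vec y) := rfl
@[simp] theorem sc_one : sc (1 : Carrier E) = 1 := rfl
@[simp] theorem vec_one : vec (1 : Carrier E) = 0 := rfl

theorem mulT_zero_left (c : (Fin 3 → Fin d) → ℂ) (b : Fin d → ℂ) : mulT c 0 b = 0 := by
  funext k; simp [mulT]

theorem mulT_zero_right (c : (Fin 3 → Fin d) → ℂ) (a : Fin d → ℂ) : mulT c a 0 = 0 := by
  funext k; simp [mulT]

theorem dot_assoc (a b e : Fin d → ℂ) (E : Ext d)
    (hsym : ∀ a b e, mulT E.c a b ⬝ᵥ e = mulT E.c a e ⬝ᵥ b) :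
    mulT E.c a b ⬝ᵥ e = a ⬝ᵥ mulT E.c b e := by
  rw [E.comm a b, hsym, dotProduct_comm]

/-- Symmetry of the trilinear form. -/
class IsSymE (E : Ext d) : Prop where
  sym : ∀ a b e, mulT E.c a b ⬝ᵥ e = mulT E.c a e ⬝ᵥ b

variable [hE : IsSymE E]

noncomputable instance instRing : CommRing (Carrier E) :=
  { (inferInstance : AddCommGroup (Carrier E)) with
    mul := (· * ·)
    one := 1
    mul_comm := fun x y => ext' (by simp [dotProduct_comm (vec x), mul_comm])
      (by simp [E.comm (vec x)]; abel)
    one_mul := fun x => ext' (by simp) (by simp [mulT_zero_left])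
    mul_one := fun x => ext' (by simp) (by simp [mulT_zero_right])
    zero_mul := fun x => ext' (by simp) (by simp [mulT_zero_left])
    mul_zero := fun x => ext' (by simp) (by simp [mulT_zero_right])
    left_distrib := fun x y z => ext' (by simp [dotProduct_add]; ring)
      (by simp [mulT_add_right, add_smul, smul_add]; abel)
    right_distrib := fun x y z => ext' (by simp [add_dotProduct]; ring)
      (by simp [mulT_add_left, add_smul, smul_add]; abel)
    mul_assoc := fun x y z => ext'
      (by
        simp only [sc_mul, vec_mul, add_dotProduct, dotProduct_add, smul_dotProduct, dotProduct_smul,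
          smul_eq_mul, dot_assoc (vec x) (vec y) (vec z) E hE.sym]
        ring)
      (by
        simp only [sc_mul, vec_mul, mulT_add_left, mulT_add_right, mulT_smul_left, mulT_smul_right, add_smul,
          smul_add, smul_smul]
        have h := E.assoc (vec x) (vec y) (vec z)
        rw [← sub_eq_zero] at h ⊢
        rw [← h]
        simp only [mul_comm (sc z), mul_comm (sc y) (sc x)]
        abel) }

noncomputable instance : Algebra ℂ (Carrier E) :=
  Algebra.ofModule
    (fun r x y => ext' (by simp [smul_dotProduct]; ring)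
      (by simp [mulT_smul_left, smul_add, smul_smul, mul_comm r]))
    (fun r x y => ext' (by simp [dotProduct_smul]; ring)
      (by simp [mulT_smul_right, smul_add, smul_smul, mul_comm r]))

theorem finrank_carrier : finrank ℂ (Carrier E) = d + 1 := by
  show finrank ℂ (ℂ × (Fin d → ℂ)) = d + 1
  rw [Module.finrank_prod, Module.finrank_self, Module.finrank_fin_fun, add_comm]

instance : Module.Finite ℂ (Carrier E) := inferInstanceAs (Module.Finite ℂ (ℂ × (Fin d → ℂ)))

instance : IsArtinianRing (Carrier E) := IsArtinianRing.of_finite ℂ (Carrier E)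

/-- The vector part. -/
noncomputable def vecMap : (Fin d → ℂ) →ₗ[ℂ] Carrier E where
  toFun a := mk E 0 a
  map_add' a b := ext' (by simp) (by simp)
  map_smul' r a := ext' (by simp) (by simp)

variable {G : Type*} [Group G] [Fintype G] (M : G →* Matrix (Fin d) (Fin d) ℂ)
  (hdot : ∀ g a b, (M g *ᵥ a) ⬝ᵥ (M g *ᵥ b) = a ⬝ᵥ b)
  (hmul : ∀ g a b, mulT E.c (M g *ᵥ a) (M g *ᵥ b) = M g *ᵥ mulT E.c a b)

/-- An element of the group as an automorphism. -/
noncomputable def auto (g : G) : Carrier E →+* Carrier E where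
  toFun x := mk E (sc x) (M g *ᵥ vec x)
  map_one' := ext' (by simp) (by simp)
  map_zero' := ext' (by simp) (by simp)
  map_add' x y := ext' (by simp) (by simp [Matrix.mulVec_add])
  map_mul' x y := ext' (by simp [hdot]) (by simp [hmul, Matrix.mulVec_add, Matrix.mulVec_smul])

theorem auto_apply (g : G) (x : Carrier E) : auto M hdot hmul g x = mk E (sc x) (M g *ᵥ vec x) := rfl

theorem auto_auto (g h : G) (x : Carrier E) :
    auto M hdot hmul g (auto M hdot hmul h x) = auto M hdot hmul (g * h) x := by
  simp only [auto_apply, sc_mk, vec_mk, Matrix.mulVec_mulVec, map_mul]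

omit hdot hmul in
theorem sum_fixed (hinv : ∀ v, (∀ g, M g *ᵥ v = v) → v = 0) (a : Fin d → ℂ) : ∑ g, M g *ᵥ a = 0 := by
  refine hinv _ fun h => ?_
  rw [Matrix.mulVec_sum]
  refine Fintype.sum_equiv (Equiv.mulLeft h) _ _ fun g => ?_
  rw [Matrix.mulVec_mulVec, ← map_mul]
  rfl

include hdot hmul in
theorem sc_of_nilpotent (hinv : ∀ v, (∀ g, M g *ᵥ v = v) → v = 0) {x : Carrier E} (hx : IsNilpotent x) :
    sc x = 0 := by
  classical
  have hs : IsNilpotent (∑ g : G, auto M hdot hmul g x) := Commute.isNilpotent_sum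
    (fun g _ => hx.map (auto M hdot hmul g)) fun g h _ _ => Commute.all _ _
  set y := ∑ g : G, auto M hdot hmul g x
  let F : Carrier E →+ ℂ := AddMonoidHom.mk' sc sc_add
  let V : Carrier E →+ (Fin d → ℂ) := AddMonoidHom.mk' vec vec_add
  have hy : y = algebraMap ℂ (Carrier E) ((Fintype.card G : ℂ) * sc x) := by
    rw [Algebra.algebraMap_eq_smul_one]
    refine ext' ?_ ?_
    · show F y = _
      simp only [y, map_sum]
      simp [F, auto_apply]
    · show V y = _
      simp only [y, map_sum]
      simp only [V, AddMonoidHom.mk'_apply, auto_apply, vec_mk, sum_fixed M hinv, vec_smul, vec_one, smul_zero]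
  rw [hy] at hs
  obtain ⟨k, hk⟩ := hs
  rw [← map_pow] at hk
  have := congrArg sc hk
  rw [Algebra.algebraMap_eq_smul_one, sc_smul, sc_one, mul_one, sc_zero] at this
  exact (mul_eq_zero.mp (eq_zero_of_pow_eq_zero this)).resolve_left (Nat.cast_ne_zero.mpr Fintype.card_ne_zero)

/-- The nilpotent vectors. -/
noncomputable def nilVec (E : Ext d) [IsSymE E] : Submodule ℂ (Fin d → ℂ) :=
  ((nilradical (Carrier E)).restrictScalars ℂ).comap (vecMap (E := E))

include hdot hmul in
theorem isReduced (hirr : ∀ U : Submodule ℂ (Fin d → ℂ), (∀ g, ∀ u ∈ U, M g *ᵥ u ∈ U) → U = ⊥ ∨ U = ⊤)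
    (hinv : ∀ v, (∀ g, M g *ᵥ v = v) → v = 0) (hc : E.c ≠ 0) (hd : 0 < d) : _root_.IsReduced (Carrier E) := by
  classical
  have hsc := fun {x : Carrier E} => sc_of_nilpotent M hdot hmul hinv (x := x)
  have hmem : ∀ a, a ∈ nilVec E ↔ IsNilpotent (mk E 0 a) := fun a => by
    simp [nilVec, vecMap, mem_nilradical]
  have hU : ∀ g, ∀ u ∈ nilVec E, M g *ᵥ u ∈ nilVec E := by
    intro g u hu
    rw [hmem] at hu ⊢
    exact hu.map (auto M hdot hmul g)
  rcases hirr _ hU with h | h
  · refine ⟨fun x hx => ext' (hsc hx) ?_⟩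
    have : vec x ∈ nilVec E := by
      rw [hmem]
      have e : mk E 0 (vec x) = x := ext' (by simp [hsc hx]) (by simp)
      rw [e]; exact hx
    rw [h, Submodule.mem_bot] at this
    simpa using this
  · exfalso
    have hnil : ∀ a : Fin d → ℂ, IsNilpotent (mk E 0 a) := fun a => (hmem a).mp (h ▸ Submodule.mem_top)
    have hprod : ∀ a b : Fin d → ℂ, mk E 0 a * mk E 0 b = mk E 0 (mulT E.c a b) := by
      intro a b
      have hn : IsNilpotent (mk E 0 a * mk E 0 b) := (Commute.all _ _).isNilpotent_mul_right (hnil a)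
      exact ext' (by rw [hsc hn, sc_mk]) (by simp)
    -- the products span
    set W := Submodule.span ℂ (Set.range fun p : (Fin d → ℂ) × (Fin d → ℂ) => mulT E.c p.1 p.2)
    have hW : ∀ g, ∀ u ∈ W, M g *ᵥ u ∈ W := by
      intro g u hu
      have hle : W ≤ W.comap (Matrix.mulVecLin (M g)) := Submodule.span_le.mpr (by
        rintro _ ⟨⟨a, b⟩, rfl⟩
        show M g *ᵥ mulT E.c a b ∈ W
        rw [← hmul]
        exact Submodule.subset_span ⟨(M g *ᵥ a, M g *ᵥ b), rfl⟩)
      exact hle hu
    have hWtop : W = ⊤ := (hirr W hW).resolve_left fun h0 => hc (funext fun i => by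
      have h1 : mulT E.c (Pi.single (i 0) 1) (Pi.single (i 1) 1) ∈ W :=
        Submodule.subset_span ⟨(Pi.single (i 0) 1, Pi.single (i 1) 1), rfl⟩
      rw [h0, Submodule.mem_bot] at h1
      have h2 := congrArg (fun v => v ⬝ᵥ Pi.single (i 2) 1) h1
      simp only [dot_mulT, zero_dotProduct] at h2
      rw [← form_single E.c i]
      refine Eq.trans ?_ h2
      congr 1
      funext l
      fin_cases l <;> rfl)
    obtain ⟨k, hk⟩ := IsArtinianRing.isNilpotent_nilradical (R := Carrier E)
    have hall : ∀ (j : ℕ) (a : Fin d → ℂ), mk E 0 a ∈ nilradical (Carrier E) ^ j := by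
      intro j
      induction j with
      | zero => intro a; simp
      | succ j ih =>
        intro a
        have hle : W ≤ ((nilradical (Carrier E) ^ (j + 1)).restrictScalars ℂ).comap (vecMap (E := E)) :=
          Submodule.span_le.mpr (by
            rintro _ ⟨⟨u, v⟩, rfl⟩
            show mk E 0 (mulT E.c u v) ∈ nilradical (Carrier E) ^ (j + 1)
            rw [← hprod, pow_succ]
            exact Ideal.mul_mem_mul (ih u) (mem_nilradical.mpr (hnil v)))
        exact hle (hWtop ▸ Submodule.mem_top : a ∈ W)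
    have := hall k (fun _ => 1)
    rw [hk, Ideal.zero_eq_bot, Ideal.mem_bot] at this
    exact one_ne_zero (congrFun (congrArg vec this) ⟨0, hd⟩)

theorem card_spectrum [_root_.IsReduced (Carrier E)] : Nat.card (MaximalSpectrum (Carrier E)) = d + 1 := by
  classical
  cases nonempty_fintype (MaximalSpectrum (Carrier E))
  have hone : ∀ I : MaximalSpectrum (Carrier E), finrank ℂ (Carrier E ⧸ I.asIdeal) = 1 := by
    intro I
    have := I.isMaximal
    let _ : Field (Carrier E ⧸ I.asIdeal) := Ideal.Quotient.field I.asIdeal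
    have hb := IsAlgClosed.algebraMap_bijective_of_isIntegral (k := ℂ) (K := Carrier E ⧸ I.asIdeal)
    rw [← (LinearEquiv.ofBijective (Algebra.linearMap ℂ (Carrier E ⧸ I.asIdeal)) hb).finrank_eq,
      Module.finrank_self]
  have e := ((IsArtinianRing.equivPi (Carrier E)).restrictScalars ℂ).toLinearEquiv.finrank_eq
  rw [finrank_carrier, Module.finrank_pi_fintype] at e
  simp only [hone, Finset.sum_const, Finset.card_univ, smul_eq_mul, mul_one] at e
  rw [Nat.card_eq_fintype_card, e]

include hdot hmul in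
/-- The group acts transitively on the points. -/
theorem exists_index_aux [_root_.IsReduced (Carrier E)] (hinv : ∀ v, (∀ g, M g *ᵥ v = v) → v = 0) :
    ∃ H : Subgroup G, H.index = d + 1 := by
  classical
  cases nonempty_fintype (MaximalSpectrum (Carrier E))
  set φ := auto M hdot hmul
  have hbij : ∀ g, Function.Bijective (φ g) := fun g => by
    refine ⟨Function.LeftInverse.injective (g := φ g⁻¹) fun x => ?_,
      Function.RightInverse.surjective (g := φ g⁻¹) fun x => ?_⟩
    all_goals
      simp only [φ, auto_auto, inv_mul_cancel, mul_inv_cancel]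
      exact ext' (by simp [auto_apply]) (by simp [auto_apply])
  let _ : MulAction G (MaximalSpectrum (Carrier E)) :=
    { smul := fun g I => ⟨I.asIdeal.comap (φ g⁻¹), by
        have := I.isMaximal
        exact Ideal.comap_isMaximal_of_surjective _ (hbij g⁻¹).2⟩
      one_smul := fun I => MaximalSpectrum.ext (Ideal.ext fun x => by
        show φ 1⁻¹ x ∈ I.asIdeal ↔ x ∈ I.asIdeal
        rw [show φ 1⁻¹ x = x from ext' (by simp [φ, auto_apply]) (by simp [φ, auto_apply])])
      mul_smul := fun g h I => MaximalSpectrum.ext (Ideal.ext fun x => by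
        show φ (g * h)⁻¹ x ∈ I.asIdeal ↔ φ h⁻¹ (φ g⁻¹ x) ∈ I.asIdeal
        rw [auto_auto, _root_.mul_inv_rev]) }
  have hsmul : ∀ (g : G) (I : MaximalSpectrum (Carrier E)) (x : Carrier E),
      x ∈ (g • I).asIdeal ↔ φ g⁻¹ x ∈ I.asIdeal := fun g I x => Iff.rfl
  obtain ⟨I0⟩ : Nonempty (MaximalSpectrum (Carrier E)) :=
    (Nat.card_pos_iff.mp (by rw [card_spectrum]; omega)).1
  refine ⟨MulAction.stabilizer G I0, ?_⟩
  rw [MulAction.index_stabilizer, ← card_spectrum (E := E)]
  suffices h : MulAction.orbit G I0 = Set.univ by rw [h, Set.ncard_univ]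
  -- the idempotent of the orbit
  set e := IsArtinianRing.equivPi (Carrier E)
  set x := e.symm fun I => if I ∈ MulAction.orbit G I0 then 1 else 0
  have hx : ∀ I : MaximalSpectrum (Carrier E),
      (Ideal.Quotient.mk I.asIdeal x) = if I ∈ MulAction.orbit G I0 then 1 else 0 := fun I => by
    have : e x I = _ := congrFun (e.apply_symm_apply _) I
    exact this
  have hfix : ∀ g, φ g x = x := by
    intro g
    apply e.injective
    funext I
    show Ideal.Quotient.mk I.asIdeal (φ g x) = Ideal.Quotient.mk I.asIdeal x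
    rw [hx I]
    have key : (g⁻¹ • I) ∈ MulAction.orbit G I0 ↔ I ∈ MulAction.orbit G I0 := by
      constructor
      · intro h
        have := MulAction.mem_orbit_of_mem_orbit g h
        rwa [smul_inv_smul] at this
      · exact MulAction.mem_orbit_of_mem_orbit g⁻¹
    have h := hx (g⁻¹ • I)
    split_ifs with hI
    · rw [if_pos (key.mpr hI), ← map_one (Ideal.Quotient.mk _), Ideal.Quotient.eq, hsmul, inv_inv, map_sub,
        map_one] at h
      rwa [← map_one (Ideal.Quotient.mk _), Ideal.Quotient.eq]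
    · rw [if_neg (mt key.mp hI), Ideal.Quotient.eq_zero_iff_mem, hsmul, inv_inv] at h
      rwa [Ideal.Quotient.eq_zero_iff_mem]
  have hv : vec x = 0 := hinv _ fun g => by
    have := congrArg vec (hfix g)
    simpa [φ, auto_apply] using this
  have hxs : x = algebraMap ℂ (Carrier E) (sc x) := by
    rw [Algebra.algebraMap_eq_smul_one]
    exact ext' (by simp) (by simp [hv])
  by_contra hne
  obtain ⟨I1, hI1⟩ := (Set.ne_univ_iff_exists_notMem _).mp hne
  have h0 := hx I0
  have h1 := hx I1
  rw [if_pos (MulAction.mem_orbit_self I0), hxs] at h0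
  rw [if_neg hI1, hxs] at h1
  have := I1.isMaximal
  have hs : sc x = 0 := by
    have : Nontrivial (Carrier E ⧸ I1.asIdeal) := Ideal.Quotient.nontrivial_iff.mpr I1.isMaximal.ne_top
    exact (map_eq_zero_iff ((Ideal.Quotient.mk I1.asIdeal).comp (algebraMap ℂ (Carrier E)))
      (RingHom.injective _)).mp h1
  have : Nontrivial (Carrier E ⧸ I0.asIdeal) := Ideal.Quotient.nontrivial_iff.mpr I0.isMaximal.ne_top
  rw [hs, map_zero, map_zero] at h0
  exact zero_ne_one h0

end CfsgLib.KGroups.AlgebraPoint
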