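import Cfsg.Agent.Lib.CharDeep.BilinearForm
import Mathlib.LinearAlgebra.QuadraticForm.Basic
import Mathlib.Analysis.Complex.Polynomial.Basic

/-!
# Invariant tensors of an orthogonal matrix representation
-/

set_option autoImplicit false
open Matrix Module

namespace CfsgLib.KGroups.AlgebraPoint

variable {n : ℕ}

/-- A nondegenerate symmetric complex matrix is `Qᵀ * Q`. -/
theorem exists_orth (X : Matrix (Fin n) (Fin n) ℂ) (hs : X.transpose = X)
    (hn : ∀ v : Fin n → ℂ, X *ᵥ v = 0 → v = 0) :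
    ∃ Q Q' : Matrix (Fin n) (Fin n) ℂ, Q' * Q = 1 ∧ Q * Q' = 1 ∧ Q.transpose * Q = X := by
  set B : LinearMap.BilinForm ℂ (Fin n → ℂ) := Matrix.toLinearMap₂' ℂ X
  have hB : ∀ v w, B v w = v ⬝ᵥ (X *ᵥ w) := fun v w => Matrix.toLinearMap₂'_apply' X v w
  have hsymm : LinearMap.IsSymm B := ⟨fun v w => by
    rw [hB, hB, dotProduct_mulVec, dotProduct_comm, ← mulVec_transpose, hs]
    rfl⟩
  have : Invertible (2 : ℂ) := invertibleOfNonzero two_ne_zero
  obtain ⟨v0, hv0⟩ := LinearMap.BilinForm.exists_orthogonal_basis (B := B) hsymm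
  let v := v0.reindex (finCongr (Module.finrank_fin_fun ℂ))
  have hv : ∀ i j, i ≠ j → B (v i) (v j) = 0 := fun i j h => by
    simp only [v, Basis.reindex_apply]
    exact hv0 (fun e => h (Equiv.injective _ e))
  have hne : ∀ i, B (v i) (v i) ≠ 0 := by
    intro i h0
    have hall : ∀ w, B w (v i) = 0 := fun w => by
      rw [← v.sum_repr w, map_sum, LinearMap.sum_apply]
      refine Finset.sum_eq_zero fun j _ => ?_
      rw [map_smul, LinearMap.smul_apply]
      by_cases hj : j = i
      · rw [hj, h0, smul_zero]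
      · rw [hv j i hj, smul_zero]
    refine v.ne_zero i (hn _ (funext fun k => ?_))
    have := hall (Pi.single k 1)
    rwa [hB, single_dotProduct, one_mul] at this
  choose r hr using fun i => IsAlgClosed.exists_pow_nat_eq (B (v i) (v i)) (n := 2) two_pos
  have hr0 : ∀ i, r i ≠ 0 := fun i h => hne i (by rw [← hr i, h, zero_pow two_ne_zero])
  set P : Matrix (Fin n) (Fin n) ℂ := Matrix.of fun k i => v i k / r i
  have hP : P.transpose * X * P = 1 := by
    ext i j
    have hcol : ∀ l, (fun k => P k l) = (r l)⁻¹ • v l := fun l => funext fun k => by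
      simp [P, div_eq_inv_mul]
    have e : (P.transpose * X * P) i j = (fun k => P k i) ⬝ᵥ (X *ᵥ fun k => P k j) := by
      rw [Matrix.mul_assoc]
      rfl
    rw [e, hcol, hcol, ← hB]
    simp only [map_smul, LinearMap.smul_apply, smul_eq_mul]
    by_cases hij : i = j
    · subst hij
      rw [Matrix.one_apply_eq, ← hr i, pow_two]
      field_simp [hr0 i]
    · rw [Matrix.one_apply_ne hij, hv i j hij, mul_zero, mul_zero]
  have hPQ : P * (P.transpose * X) = 1 := mul_eq_one_comm.mp hP
  refine ⟨P.transpose * X, P, hPQ, hP, ?_⟩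
  rw [Matrix.transpose_mul, Matrix.transpose_transpose, hs, Matrix.mul_assoc, hPQ, Matrix.mul_one]

variable {G : Type*} [Group G] {d k : ℕ}

/-- The action on coordinate tensors. -/
noncomputable def tens (M : G →* Matrix (Fin d) (Fin d) ℂ) (k : ℕ) :
    Representation ℂ G ((Fin k → Fin d) → ℂ) where
  toFun g :=
    { toFun := fun T i => ∑ j, (∏ l, M g (i l) (j l)) * T j
      map_add' := fun S T => funext fun i => by
        simp only [Pi.add_apply, mul_add, Finset.sum_add_distrib]
      map_smul' := fun a T => funext fun i => by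
        simp only [Pi.smul_apply, smul_eq_mul, RingHom.id_apply, Finset.mul_sum]
        exact Finset.sum_congr rfl fun j _ => by ring }
  map_one' := by
    refine LinearMap.ext fun T => funext fun i => ?_
    simp only [LinearMap.coe_mk, AddHom.coe_mk, map_one, Module.End.one_apply]
    rw [Finset.sum_eq_single i]
    · simp
    · intro j _ hj
      obtain ⟨l, hl⟩ := Function.ne_iff.mp hj
      have h0 : (1 : Matrix (Fin d) (Fin d) ℂ) (i l) (j l) = 0 := Matrix.one_apply_ne (Ne.symm hl)
      rw [Finset.prod_eq_zero (Finset.mem_univ l) h0, zero_mul]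
    · simp
  map_mul' g h := by
    refine LinearMap.ext fun T => funext fun i => ?_
    simp only [LinearMap.coe_mk, AddHom.coe_mk, map_mul, Module.End.mul_apply, Matrix.mul_apply,
      Fintype.prod_sum, Finset.sum_mul, Finset.mul_sum]
    rw [Finset.sum_comm]
    refine Finset.sum_congr rfl fun p _ => Finset.sum_congr rfl fun j _ => ?_
    rw [Finset.prod_mul_distrib]
    ring

theorem tens_apply (M : G →* Matrix (Fin d) (Fin d) ℂ) (g : G) (T : (Fin k → Fin d) → ℂ) (i : Fin k → Fin d) :
    tens M k g T i = ∑ j, (∏ l, M g (i l) (j l)) * T j := rfl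

/-- Permutation of the places. -/
noncomputable def permT (d : ℕ) (σ : Equiv.Perm (Fin k)) : Module.End ℂ ((Fin k → Fin d) → ℂ) where
  toFun T i := T (i ∘ σ)
  map_add' _ _ := rfl
  map_smul' _ _ := rfl

theorem permT_apply (σ : Equiv.Perm (Fin k)) (T : (Fin k → Fin d) → ℂ) (i : Fin k → Fin d) :
    permT d σ T i = T (i ∘ σ) := rfl

theorem permT_tens (M : G →* Matrix (Fin d) (Fin d) ℂ) (g : G) (σ : Equiv.Perm (Fin k)) :
    permT d σ * tens M k g = tens M k g * permT d σ := by
  refine LinearMap.ext fun T => funext fun i => ?_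
  simp only [Module.End.mul_apply, permT_apply, tens_apply]
  refine Fintype.sum_equiv (Equiv.arrowCongr σ (Equiv.refl _)) _ _ fun j => ?_
  rw [show ((Equiv.arrowCongr σ (Equiv.refl (Fin d))) j) ∘ (σ : Fin k → Fin k) = j from
    funext fun l => by simp [Equiv.arrowCongr]]
  congr 1
  rw [← Equiv.prod_comp σ (fun l => M g (i l) _)]
  simp [Equiv.arrowCongr]

theorem sum_fun_succ {β : Type*} [AddCommMonoid β] {ι : Type*} [Fintype ι] [DecidableEq ι]
    (f : (Fin (k + 1) → ι) → β) : ∑ i, f i = ∑ a, ∑ i' : Fin k → ι, f (Fin.cons a i') := by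
  rw [← Equiv.sum_comp (Fin.consEquiv fun _ : Fin (k + 1) => ι), Fintype.sum_prod_type]
  rfl

theorem sum_fun_zero {β : Type*} [AddCommMonoid β] {ι : Type*} [Fintype ι] [DecidableEq ι]
    (f : (Fin 0 → ι) → β) : ∑ i, f i = f Fin.elim0 := by
  rw [Fintype.sum_unique]
  congr 1

theorem sum_fun_one {β : Type*} [AddCommMonoid β] {ι : Type*} [Fintype ι] [DecidableEq ι]
    (f : (Fin 1 → ι) → β) : ∑ i, f i = ∑ a, f ![a] := by
  rw [sum_fun_succ]
  simp only [sum_fun_zero]
  exact Finset.sum_congr rfl fun a _ => congrArg f (funext fun l => by fin_cases l; rfl)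

theorem sum_fun_three {β : Type*} [AddCommMonoid β] {ι : Type*} [Fintype ι] [DecidableEq ι]
    (f : (Fin 3 → ι) → β) : ∑ i, f i = ∑ a, ∑ b, ∑ c, f ![a, b, c] := by
  rw [sum_fun_succ]
  refine Finset.sum_congr rfl fun a _ => ?_
  rw [sum_fun_succ]
  refine Finset.sum_congr rfl fun b _ => ?_
  rw [sum_fun_one]
  rfl

theorem sum_fun_four {β : Type*} [AddCommMonoid β] {ι : Type*} [Fintype ι] [DecidableEq ι]
    (f : (Fin 4 → ι) → β) : ∑ i, f i = ∑ a, ∑ b, ∑ c, ∑ e, f ![a, b, c, e] := by
  rw [sum_fun_succ]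
  refine Finset.sum_congr rfl fun a _ => ?_
  rw [sum_fun_three]
  rfl

theorem trace_tens_perm (M : G →* Matrix (Fin d) (Fin d) ℂ) (g : G) (σ : Equiv.Perm (Fin k)) :
    LinearMap.trace ℂ _ (tens M k g * permT d σ) = ∑ i : Fin k → Fin d, ∏ l, M g (i l) (i (σ.symm l)) := by
  classical
  rw [LinearMap.trace_eq_matrix_trace ℂ (Pi.basisFun ℂ (Fin k → Fin d)), Matrix.trace]
  refine Finset.sum_congr rfl fun i _ => ?_
  simp only [Matrix.diag_apply, LinearMap.toMatrix_apply, Pi.basisFun_apply, Pi.basisFun_repr,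
    Module.End.mul_apply, tens_apply, permT_apply]
  rw [Finset.sum_eq_single (i ∘ σ.symm)]
  · rw [show (i ∘ σ.symm) ∘ σ = i from funext fun l => by simp, Pi.single_eq_same, mul_one]
    rfl
  · intro j _ hj
    rw [Pi.single_eq_of_ne, mul_zero]
    intro e
    exact hj (funext fun l => by rw [← e]; simp)
  · simp

theorem trace_tens (M : G →* Matrix (Fin d) (Fin d) ℂ) (g : G) :
    LinearMap.trace ℂ _ (tens M k g) = (M g).trace ^ k := by
  have h := trace_tens_perm M g (1 : Equiv.Perm (Fin k))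
  rw [show permT d (1 : Equiv.Perm (Fin k)) = 1 from rfl, mul_one] at h
  rw [h, ← Fin.prod_const, Matrix.trace, Fintype.prod_sum]
  exact Finset.sum_congr rfl fun i _ => rfl

/-- The multilinear form of a coordinate tensor. -/
def form (T : (Fin k → Fin d) → ℂ) (v : Fin k → Fin d → ℂ) : ℂ := ∑ i, T i * ∏ l, v l (i l)

theorem form_single (T : (Fin k → Fin d) → ℂ) (i : Fin k → Fin d) :
    form T (fun l => Pi.single (i l) 1) = T i := by
  classical
  rw [form, Finset.sum_eq_single i]
  · simp
  · intro j _ hj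
    obtain ⟨l, hl⟩ := Function.ne_iff.mp hj
    rw [Finset.prod_eq_zero (Finset.mem_univ l) (Pi.single_eq_of_ne hl _), mul_zero]
  · simp

theorem form_move {M : G →* Matrix (Fin d) (Fin d) ℂ} (hM : ∀ g, (M g).transpose = M g⁻¹) (g : G)
    (T : (Fin k → Fin d) → ℂ) (v : Fin k → Fin d → ℂ) :
    form T (fun l => M g *ᵥ v l) = form (tens M k g⁻¹ T) v := by
  simp only [form, tens_apply, Matrix.mulVec, dotProduct, Fintype.prod_sum, Finset.mul_sum, Finset.sum_mul]
  rw [Finset.sum_comm]
  refine Finset.sum_congr rfl fun j _ => Finset.sum_congr rfl fun i _ => ?_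
  rw [Finset.prod_mul_distrib]
  simp only [← hM g, Matrix.transpose_apply]
  ring

theorem mem_invariants_of_form {M : G →* Matrix (Fin d) (Fin d) ℂ} (hM : ∀ g, (M g).transpose = M g⁻¹)
    {T : (Fin k → Fin d) → ℂ} (h : ∀ g v, form T (fun l => M g *ᵥ v l) = form T v) :
    T ∈ (tens M k).invariants := by
  intro g
  funext i
  have := h g⁻¹ (fun l => Pi.single (i l) 1)
  rw [form_move hM, inv_inv, form_single, form_single] at this
  exact this

theorem form_invariant {M : G →* Matrix (Fin d) (Fin d) ℂ} (hM : ∀ g, (M g).transpose = M g⁻¹)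
    {T : (Fin k → Fin d) → ℂ} (hT : T ∈ (tens M k).invariants) (g : G) (v : Fin k → Fin d → ℂ) :
    form T (fun l => M g *ᵥ v l) = form T v := by
  rw [form_move hM, hT g⁻¹]

theorem permT_mem {M : G →* Matrix (Fin d) (Fin d) ℂ} (σ : Equiv.Perm (Fin k)) {T : (Fin k → Fin d) → ℂ}
    (hT : T ∈ (tens M k).invariants) : permT d σ T ∈ (tens M k).invariants := by
  intro g
  have := LinearMap.congr_fun (permT_tens M g σ) T
  simp only [Module.End.mul_apply, hT g] at this
  exact this.symm

variable [Fintype G]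

/-- The averaging projection. -/
noncomputable def avg (M : G →* Matrix (Fin d) (Fin d) ℂ) (k : ℕ) :
    Module.End ℂ ((Fin k → Fin d) → ℂ) := (Nat.card G : ℂ)⁻¹ • ∑ g, tens M k g

theorem avg_isProj (M : G →* Matrix (Fin d) (Fin d) ℂ) (k : ℕ) :
    LinearMap.IsProj (tens M k).invariants (avg M k) := by
  have : Invertible (Fintype.card G : ℂ) := invertibleOfNonzero (by simp)
  have e : avg M k = (tens M k).averageMap := by
    simp [avg, Representation.averageMap, GroupAlgebra.average, _root_.map_sum, Finset.smul_sum]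
  rw [e]
  exact Representation.isProj_averageMap _

theorem trace_avg (M : G →* Matrix (Fin d) (Fin d) ℂ) (k : ℕ) :
    ∑ g, (M g).trace ^ k = (Nat.card G : ℂ) * (finrank ℂ (tens M k).invariants : ℂ) := by
  rw [← (avg_isProj M k).trace, avg, map_smul, map_sum, smul_eq_mul, ← mul_assoc,
    mul_inv_cancel₀ (Nat.cast_ne_zero.mpr Nat.card_pos.ne'), one_mul]
  exact Finset.sum_congr rfl fun g _ => (trace_tens M g).symm

theorem permT_avg (M : G →* Matrix (Fin d) (Fin d) ℂ) (σ : Equiv.Perm (Fin k)) :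
    permT d σ * avg M k = avg M k * permT d σ := by
  rw [avg, mul_smul_comm, smul_mul_assoc, Finset.mul_sum, Finset.sum_mul]
  simp only [permT_tens]

end CfsgLib.KGroups.AlgebraPoint
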